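import Mathlib
import Cfsg.Prelude

/-! Class-size graph: if no three vertices are pairwise nonadjacent (S4166), a connected
class-size graph has diameter at most 3 (S4257). -/

namespace Cfsg.Agent.H552.Diam

theorem diam_le_three {G : Type*} [Group G] [Finite G]
    (h3 : ∀ p q r : ℕ, p.Prime → q.Prime → r.Prime → p ≠ q → q ≠ r → p ≠ r →
      (∃ x : G, p ∣ (Subgroup.centralizer ({x} : Set G)).index) →
      (∃ x : G, q ∣ (Subgroup.centralizer ({x} : Set G)).index) →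
      (∃ x : G, r ∣ (Subgroup.centralizer ({x} : Set G)).index) →
      ∃ x : G, p * q ∣ (Subgroup.centralizer ({x} : Set G)).index ∨
        q * r ∣ (Subgroup.centralizer ({x} : Set G)).index ∨
        p * r ∣ (Subgroup.centralizer ({x} : Set G)).index)
    (hconn : ∀ S : Set ℕ, (∃ p ∈ S, (p.Prime ∧ ∃ g : G, p ∣ (Subgroup.centralizer ({g} : Set G)).index)) → (∃ q ∉ S, (q.Prime ∧ ∃ g : G, q ∣ (Subgroup.centralizer ({g} : Set G)).index)) →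
      ∃ p q : ℕ, (p.Prime ∧ ∃ g : G, p ∣ (Subgroup.centralizer ({g} : Set G)).index) ∧ (q.Prime ∧ ∃ g : G, q ∣ (Subgroup.centralizer ({g} : Set G)).index) ∧ p ∈ S ∧ q ∉ S ∧ (∃ g : G, p * q ∣ (Subgroup.centralizer ({g} : Set G)).index))
    (p q : ℕ) (hp : (p.Prime ∧ ∃ g : G, p ∣ (Subgroup.centralizer ({g} : Set G)).index)) (hq : (q.Prime ∧ ∃ g : G, q ∣ (Subgroup.centralizer ({g} : Set G)).index)) (hpq : p ≠ q) :
    (∃ g : G, p * q ∣ (Subgroup.centralizer ({g} : Set G)).index) ∨ (∃ r : ℕ, (r.Prime ∧ ∃ g : G, r ∣ (Subgroup.centralizer ({g} : Set G)).index) ∧ r ≠ p ∧ r ≠ q ∧ (∃ g : G, p * r ∣ (Subgroup.centralizer ({g} : Set G)).index) ∧ (∃ g : G, r * q ∣ (Subgroup.centralizer ({g} : Set G)).index)) ∨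
      (∃ r s : ℕ, (r.Prime ∧ ∃ g : G, r ∣ (Subgroup.centralizer ({g} : Set G)).index) ∧ (s.Prime ∧ ∃ g : G, s ∣ (Subgroup.centralizer ({g} : Set G)).index) ∧ r ≠ p ∧ s ≠ q ∧ r ≠ s ∧ r ≠ q ∧ s ≠ p ∧
        (∃ g : G, p * r ∣ (Subgroup.centralizer ({g} : Set G)).index) ∧ (∃ g : G, r * s ∣ (Subgroup.centralizer ({g} : Set G)).index) ∧ (∃ g : G, s * q ∣ (Subgroup.centralizer ({g} : Set G)).index)) := by
  classical
  set V : ℕ → Prop := fun x => x.Prime ∧ ∃ g : G, x ∣ (Subgroup.centralizer ({g} : Set G)).index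
    with hV
  set E : ℕ → ℕ → Prop := fun x y => ∃ g : G, x * y ∣ (Subgroup.centralizer ({g} : Set G)).index
    with hE
  have h3' : ∀ a b c : ℕ, V a → V b → V c → a ≠ b → b ≠ c → a ≠ c → E a b ∨ E b c ∨ E a c := by
    intro a b c ha hb hc hab hbc hac
    obtain ⟨x, hx⟩ := h3 a b c ha.1 hb.1 hc.1 hab hbc hac ha.2 hb.2 hc.2
    rcases hx with hx | hx | hx
    · exact Or.inl ⟨x, hx⟩
    · exact Or.inr (Or.inl ⟨x, hx⟩)
    · exact Or.inr (Or.inr ⟨x, hx⟩)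
  change E p q ∨ (∃ r, V r ∧ r ≠ p ∧ r ≠ q ∧ E p r ∧ E r q) ∨
    (∃ r s, V r ∧ V s ∧ r ≠ p ∧ s ≠ q ∧ r ≠ s ∧ r ≠ q ∧ s ≠ p ∧ E p r ∧ E r s ∧ E s q)
  by_contra hcon
  let S : Set ℕ := {x | x = p ∨ (p ≠ x ∧ E p x) ∨ (∃ r, V r ∧ (p ≠ r ∧ E p r) ∧ (r ≠ x ∧ E r x)) ∨
    (∃ r s, V r ∧ V s ∧ (p ≠ r ∧ E p r) ∧ (r ≠ s ∧ E r s) ∧ (s ≠ x ∧ E s x))}
  have hpS : p ∈ S := Or.inl rfl
  have hqS : q ∉ S := by
    rintro (h | h | ⟨r, hr, h1, h2⟩ | ⟨r, s, hr, hs, h1, h2, h4⟩)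
    · exact hpq h.symm
    · exact hcon (Or.inl h.2)
    · exact hcon (Or.inr (Or.inl ⟨r, hr, h1.1.symm, h2.1, h1.2, h2.2⟩))
    · by_cases hrq : r = q
      · subst hrq
        exact hcon (Or.inl h1.2)
      · by_cases hsp : s = p
        · subst hsp
          exact hcon (Or.inl h4.2)
        · exact hcon (Or.inr (Or.inr ⟨r, s, hr, hs, h1.1.symm, h4.1, h2.1, hrq, hsp, h1.2, h2.2,
            h4.2⟩))
  obtain ⟨x, y, hx, hy, hxS, hyS, hxy⟩ := hconn S ⟨p, hpS, hp⟩ ⟨q, hqS, hq⟩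
  have hxy1 : x ≠ y := fun h => hyS (h ▸ hxS)
  have hxyA : x ≠ y ∧ E x y := ⟨hxy1, hxy⟩
  rcases hxS with h | h | ⟨r, hr, h1, h2⟩ | ⟨r, s, hr, hs, h1, h2, h4⟩
  · subst h
    exact hyS (Or.inr (Or.inl hxyA))
  · exact hyS (Or.inr (Or.inr (Or.inl ⟨x, hx, h, hxyA⟩)))
  · exact hyS (Or.inr (Or.inr (Or.inr ⟨r, x, hr, hx, h1, h2, hxyA⟩)))
  · have hps : p ≠ s := by
      intro h
      subst h
      exact hyS (Or.inr (Or.inr (Or.inl ⟨x, hx, h4, hxyA⟩)))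
    have hsy : s ≠ y := by
      intro h
      subst h
      exact hyS (Or.inr (Or.inr (Or.inl ⟨r, hr, h1, h2⟩)))
    have hpy : p ≠ y := by
      intro h
      subst h
      exact hyS (Or.inl rfl)
    rcases h3' p s y hp hs hy hps hsy hpy with h | h | h
    · exact hyS (Or.inr (Or.inr (Or.inr ⟨s, x, hs, hx, ⟨hps, h⟩, h4, hxyA⟩)))
    · exact hyS (Or.inr (Or.inr (Or.inr ⟨r, s, hr, hs, h1, h2, ⟨hsy, h⟩⟩)))
    · exact hyS (Or.inr (Or.inl ⟨hpy, h⟩))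

end Cfsg.Agent.H552.Diam
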