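import Mathlib
import Cfsg.Agent.H552.Bilin
import Cfsg.Agent.H552.QuadQ
import Cfsg.Agent.H552.WData
import Cfsg.Agent.H979.TwoLenRA
import Cfsg.Agent.H979.TwoLenStar
import Cfsg.Agent.H979.TwoLenF
import Cfsg.Agent.H557.E1
import Cfsg.Agent.S0056

/-!
# Case 5b of S4258 (helper552)
-/

set_option autoImplicit false
set_option linter.unusedSectionVars false
set_option linter.unusedVariables false
set_option linter.style.haveILetI false

universe u

namespace Cfsg.Agent.H552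

open scoped commutatorElement
open Cfsg.Agent.OddOrderCharacters.PF9

/-- the additive sign -/
def lg (u : ℤˣ) : ZMod 2 := if u = 1 then 0 else 1

theorem lg_mul (u v : ℤˣ) : lg (u * v) = lg u + lg v := by revert u v; decide

theorem lg_eq_zero {u : ℤˣ} : lg u = 0 ↔ u = 1 := by revert u; decide

section

variable {G : Type u} [Group G] [Finite G] {k : ℕ} {Q R L N₁ : Subgroup G}
  {q : ℕ} [Fact q.Prime] {W : Type u} [AddCommGroup W] [Module (ZMod q) W] [Finite W]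
  {σ : G →* Module.End (ZMod q) W} {ι : Type u} {b : ι → W →ₗ[ZMod q] W →ₗ[ZMod q] ZMod q}
  {M : Type u} [AddCommGroup M] [Module (ZMod 2) M] [Finite M] {π : ↥R → M}
  {ρ : ↥N₁ →* Module.End (ZMod 2) M}

theorem alpha_mul (w : WD k q Q R σ b) {A : Subgroup G} {α : G → ℤˣ} (hα : wt σ A α ≠ ⊥) {c d : G}
    (hc : c ∈ A) (hd : d ∈ A) : α (c * d) = α c * α d := by
  obtain ⟨v, hv, hv0⟩ := Submodule.exists_mem_ne_zero_of_ne_bot hα
  by_contra hne
  apply hv0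
  refine H979.TwoLenRA.eq_zero_of_sign_ne w.q2 hne ?_
  rw [← hv (c * d) (A.mul_mem hc hd), map_mul, Module.End.mul_apply, hv d hd, map_zsmul, hv c hc,
    ← mul_smul, mul_comm]
  push_cast
  rfl

theorem alpha_one (w : WD k q Q R σ b) {A : Subgroup G} {α : G → ℤˣ} (hα : wt σ A α ≠ ⊥) :
    α 1 = 1 := by
  have h := alpha_mul w hα A.one_mem A.one_mem
  rw [mul_one] at h
  exact left_eq_mul.1 h

/-- a nontrivial element of `Z₀` is detected by a weight -/
theorem exists_alpha (h : D2 k Q R L N₁) (w : WD k q Q R σ b) {g : G} (hg : g ∈ Z0 R L)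
    (hne : g ≠ 1) : ∃ α : G → ℤˣ, wt σ (Z0 R L) α ≠ ⊥ ∧ α g ≠ 1 := by
  have hσ : σ g ≠ 1 := fun h1 => hne (w.faithR g hg.1 h1)
  have hab : ∀ r ∈ Z0 R L, ∀ s ∈ Z0 R L, r * s = s * r := fun r hr s hs => h.Z0_central hr hs.1
  have hU : ∀ r ∈ Z0 R L, ∀ v ∈ LinearMap.range (σ g - 1), σ r v ∈ LinearMap.range (σ g - 1) := by
    rintro r hr _ ⟨v, rfl⟩
    refine ⟨σ r v, ?_⟩
    rw [LinearMap.sub_apply, LinearMap.sub_apply, map_sub, Module.End.one_apply, Module.End.one_apply,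
      ← Module.End.mul_apply, ← Module.End.mul_apply, ← map_mul, ← map_mul, hab g hg r hr]
  have hne' : LinearMap.range (σ g - 1) ≠ ⊥ := by
    intro h1
    rw [LinearMap.range_eq_bot, sub_eq_zero] at h1
    exact hσ h1
  obtain ⟨α, v, hvU, hv0, hvα⟩ := H979.TwoLenRA.exists_weight w.q2 hab (fun r hr => h.Z0_sq hr) σ _
    hU hne'
  refine ⟨α, fun hbot => hv0 ?_, fun h1 => hv0 ?_⟩
  · have : v ∈ wt σ (Z0 R L) α := hvα
    rw [hbot] at this
    exact (Submodule.mem_bot _).1 this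
  · obtain ⟨u, rfl⟩ := hvU
    have h2 := hvα g hg
    rw [h1] at h2
    have h3 : σ g ((σ g - 1) u) = -((σ g - 1) u) := by
      rw [LinearMap.sub_apply, Module.End.one_apply, map_sub, ← Module.End.mul_apply, ← map_mul, ← pow_two,
        h.Z0_sq hg, map_one, Module.End.one_apply]
      abel
    rw [h3] at h2
    refine H979.TwoLenRA.eq_zero_of_neg_eq w.q2 ?_
    simpa using h2

/-- the quadratic form of a weight -/
structure AB (π : ↥R → M) (α : G → ℤˣ) (B : M →ₗ[ZMod 2] M →ₗ[ZMod 2] ZMod 2) (qf : M → ZMod 2) : Prop where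
  hB : ∀ a b : ↥R, B (π a) (π b) = lg (α ⁅(a : G), (b : G)⁆)
  hq : ∀ a : ↥R, qf (π a) = lg (α ((a : G) ^ 2))
  hadd : ∀ m m', qf (m + m') = qf m + qf m' + B m m'

theorem exists_AB (h : D2 k Q R L N₁) (w : WD k q Q R σ b) (d : MD R L N₁ π ρ) {α : G → ℤˣ}
    (hα : wt σ (Z0 R L) α ≠ ⊥) : ∃ B qf, AB π α B qf := by
  have hcz : ∀ a b : ↥R, ⁅(a : G), (b : G)⁆ ∈ Z0 R L := fun a b =>
    h.comm_RR (Subgroup.commutator_mem_commutator a.2 b.2)
  have hα1 := alpha_one w hα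
  obtain ⟨B, hB⟩ := exists_bilin π d.surj d.add (fun a b => lg (α ⁅(a : G), (b : G)⁆))
    (fun a b e => by
      rw [← lg_mul, ← alpha_mul w hα (hcz a e) (hcz b e)]
      congr 2
      exact h.comm_mul_left a.2 b.2 e.2)
    (fun a b e => by
      rw [← lg_mul, ← alpha_mul w hα (hcz a b) (hcz a e)]
      congr 2
      exact h.comm_mul_right a.2 b.2 e.2)
    (fun a b ha => by
      rw [commutatorElement_eq_one_iff_mul_comm.2 (h.Z0_central ((d.ker a).1 ha) b.2), hα1]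
      rfl)
    (fun a b hb => by
      rw [commutatorElement_eq_one_iff_mul_comm.2 (h.Z0_central ((d.ker b).1 hb) a.2).symm, hα1]
      rfl)
  let s : M → ↥R := Function.surjInv d.surj
  have hs : ∀ m, π (s m) = m := Function.surjInv_eq d.surj
  -- the square map
  have hsq : ∀ a a' : ↥R, π a = π a' → (a : G) ^ 2 = (a' : G) ^ 2 := by
    intro a a' haa
    have h1 : (a : G)⁻¹ * a' ∈ Z0 R L := by
      have : π (a⁻¹ * a') = 0 := by rw [d.add, d.inv, haa, neg_add_cancel]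
      exact (d.ker _).1 this
    have h2 := h.Z0_sq h1
    have h3 := h.Z0_central h1 a.2
    have h4 : (a' : G) = a * ((a : G)⁻¹ * a') := by group
    rw [h4, Commute.mul_pow h3.symm, h2, mul_one]
  have hqf : ∀ a : ↥R, lg (α ((s (π a) : G) ^ 2)) = lg (α ((a : G) ^ 2)) := fun a => by
    rw [hsq (s (π a)) a (hs _)]
  refine ⟨B, fun m => lg (α ((s m : G) ^ 2)), hB, hqf, fun m m' => ?_⟩
  obtain ⟨a, rfl⟩ := d.surj m
  obtain ⟨a', rfl⟩ := d.surj m'
  rw [← d.add, hqf, hqf, hqf, hB]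
  have h1 : ((a * a' : ↥R) : G) ^ 2 = (a : G) ^ 2 * (⁅(a : G), (a' : G)⁆ * (a' : G) ^ 2) := by
    have h2 : ⁅(a : G), (a' : G)⁆ = ⁅(a' : G), (a : G)⁆ := by
      have h3 := h.comm_sq a.2 a'.2
      have h4 : ⁅(a' : G), (a : G)⁆ = (⁅(a : G), (a' : G)⁆)⁻¹ := by
        rw [commutatorElement_inv]
      rw [h4]
      exact eq_inv_of_mul_eq_one_left (by rw [← pow_two]; exact h3)
    have h5 : ⁅(a' : G), (a : G)⁆ * a = a * ⁅(a' : G), (a : G)⁆ := h.Z0_central (hcz a' a) a.2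
    rw [h2]
    have h6 : ((a * a' : ↥R) : G) ^ 2 = (a : G) ^ 2 * (((a : G)⁻¹ * ⁅(a' : G), (a : G)⁆ * a) * (a' : G) ^ 2) := by
      rw [Subgroup.coe_mul]
      simp only [commutatorElement_def, pow_two]; group
    rw [h6, mul_assoc ((a : G)⁻¹), h5]; group
  rw [h1, alpha_mul w hα (h.sq_mem a.2) ((Z0 R L).mul_mem (hcz a a') (h.sq_mem a'.2)),
    alpha_mul w hα (hcz a a') (h.sq_mem a'.2), lg_mul, lg_mul]
  ring

/-- translation of a weight by an element of `N₁` -/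
theorem AB.conj {α : G → ℤˣ} {B : M →ₗ[ZMod 2] M →ₗ[ZMod 2] ZMod 2} {qf : M → ZMod 2}
    (ab : AB π α B qf) (d : MD R L N₁ π ρ) (n : ↥N₁) :
    AB π (fun c => α ((n : G) * c * (n : G)⁻¹)) (B.compl₁₂ (ρ n) (ρ n)) (fun m => qf (ρ n m)) := by
  constructor
  · intro a b
    rw [LinearMap.compl₁₂_apply, d.act, d.act, ab.hB]
    congr 2
    show ⁅(n : G) * a * (n : G)⁻¹, (n : G) * b * (n : G)⁻¹⁆ = _
    simp only [commutatorElement_def]; group
  · intro a
    show qf (ρ n (π a)) = _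
    rw [d.act, ab.hq]
    congr 2
    show ((n : G) * a * (n : G)⁻¹) ^ 2 = _
    rw [conj_pow]
  · intro m m'
    show qf (ρ n (m + m')) = _
    rw [map_add, ab.hadd, LinearMap.compl₁₂_apply]

theorem wt_conj (h : D2 k Q R L N₁) {α : G → ℤˣ} (hα : wt σ (Z0 R L) α ≠ ⊥) (n : ↥N₁) :
    wt σ (Z0 R L) (fun c => α ((n : G) * c * (n : G)⁻¹)) ≠ ⊥ := by
  obtain ⟨v, hv, hv0⟩ := Submodule.exists_mem_ne_zero_of_ne_bot hα
  have h1 : σ (n : G)⁻¹ v ∈ wt σ (Z0 R L) (fun c => α ((n : G) * c * (n : G)⁻¹)) := by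
    intro c hc
    have h2 : (n : G) * c * (n : G)⁻¹ ∈ Z0 R L :=
      (Subgroup.mem_normalizer_iff.1 (h.norm_Z0 n.2) c).1 hc
    have h3 := hv _ h2
    rw [← map_zsmul, ← h3, ← Module.End.mul_apply, ← Module.End.mul_apply, ← map_mul, ← map_mul]
    congr 2
    group
  intro hbot
  rw [hbot, Submodule.mem_bot] at h1
  apply hv0
  have h2 : v = σ (n : G) (σ (n : G)⁻¹ v) := by
    rw [← Module.End.mul_apply, ← map_mul, mul_inv_cancel, map_one, Module.End.one_apply]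
  rw [h2, h1, map_zero]

/-- invariance under `L` -/
theorem AB.inv_L (h : D2 k Q R L N₁) {α : G → ℤˣ} {B : M →ₗ[ZMod 2] M →ₗ[ZMod 2] ZMod 2} {qf : M → ZMod 2}
    (ab : AB π α B qf) (d : MD R L N₁ π ρ) {l : G} (hl : l ∈ L) (m : M) :
    qf (ρ ⟨l, h.LN₁ hl⟩ m) = qf m := by
  obtain ⟨a, rfl⟩ := d.surj m
  rw [d.act, ab.hq, ab.hq]
  congr 2
  show (l * a * l⁻¹) ^ 2 = _
  rw [conj_pow]
  have h1 : l * (a : G) ^ 2 = (a : G) ^ 2 * l := (h.sq_mem a.2).2 l hl
  rw [h1]; group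

/-- `2`-elements -/
theorem isTwo_mul {x m : G} (hR : IsPGroup 2 R) (hx : IsTwo x) (hxR : x ∈ Subgroup.normalizer (R : Set G))
    (hm : m ∈ R) : IsTwo (m * x) := by
  have : Fact (Nat.Prime 2) := ⟨Nat.prime_two⟩
  have h1 : IsPGroup 2 (Subgroup.zpowers x) := by
    obtain ⟨k, hk⟩ := hx
    rintro ⟨_, n, rfl⟩
    refine ⟨k, Subtype.ext ?_⟩
    show (x ^ n) ^ 2 ^ k = 1
    rw [← zpow_natCast, ← zpow_mul, mul_comm, zpow_mul, zpow_natCast, hk, one_zpow]
  have h2 : IsPGroup 2 (Subgroup.zpowers x ⊔ R : Subgroup G) :=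
    h1.to_sup_of_normal_right' hR (by rwa [Subgroup.zpowers_le])
  exact isTwo_of_isPGroup h2 (Subgroup.mul_mem _ (Subgroup.mem_sup_right hm)
    (Subgroup.mem_sup_left (Subgroup.mem_zpowers x)))

end

end Cfsg.Agent.H552
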